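import Cfsg.Agent.H63.CoxeterA

/-!
# Central extensions of symmetric groups splitting on transpositions

If some transposition lifts to an involution and lifts of disjoint transpositions commute, the
derived subgroup of a central extension of a symmetric group meets the kernel trivially.
-/

set_option autoImplicit false

namespace Cfsg.Agent.H54.SymSplit

open Equiv
open scoped commutatorElement

/-- In a central extension of a symmetric group with involutory lifts of transpositions and
commuting lifts of disjoint transpositions, commutators meet the kernel trivially. -/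
theorem commutator_inf_ker {H : Type*} [Group H] [Finite H] {m : ℕ} (f : H →* Equiv.Perm (Fin m))
    (hf : Function.Surjective f) (hc : f.ker ≤ Subgroup.center H)
    (ht : m ≤ 1 ∨ ∃ t : H, t * t = 1 ∧ (f t).IsSwap)
    (hcomm : ∀ t u : H, (f t).IsSwap → (f u).IsSwap → (f t).Disjoint (f u) → Commute t u) :
    commutator H ⊓ f.ker = ⊥ := by
  classical
  have hcen : ∀ z ∈ f.ker, ∀ h : H, h * z = z * h := fun z hz h =>
    Subgroup.mem_center_iff.1 (hc hz) h
  by_cases hm : m ≤ 1
  · haveI : Subsingleton (Fin m) := Fin.subsingleton_iff_le_one.2 hm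
    have htop : ∀ h : H, h ∈ f.ker := fun h => Subsingleton.elim _ _
    have hbot : commutator H = ⊥ := by
      rw [commutator_def, eq_bot_iff, Subgroup.commutator_le]
      intro a _ b _
      rw [Subgroup.mem_bot, commutatorElement_eq_one_iff_mul_comm]
      exact hcen b (htop b) a
    rw [hbot, bot_inf_eq]
  obtain ⟨t, ht2, x, y, hxy, htσ⟩ := ht.resolve_left hm
  obtain ⟨n, rfl⟩ : ∃ n, m = n + 1 := ⟨m - 1, by omega⟩
  -- involutory lifts of adjacent transpositions
  have hlift : ∀ i : Fin n, ∃ s : H, s * s = 1 ∧ f s = swap i.castSucc i.succ := by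
    intro i
    obtain ⟨g, hg⟩ := isConj_iff.1
      (Equiv.Perm.isConj_swap hxy (show i.castSucc ≠ i.succ by simp [Fin.ext_iff]))
    obtain ⟨h, rfl⟩ := hf g
    refine ⟨h * t * h⁻¹, ?_, by rw [map_mul, map_mul, map_inv, htσ, hg]⟩
    rw [show h * t * h⁻¹ * (h * t * h⁻¹) = h * (t * t) * h⁻¹ by group, ht2, mul_one,
      mul_inv_cancel]
  choose u₀ hu₀ hfu₀ using hlift
  let u : ℕ → H := fun k => if h : k < n then u₀ ⟨k, h⟩ else 1
  let z : ℕ → H := fun k => if k + 1 < n then (u k * u (k + 1)) ^ 3 else 1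
  have hu : ∀ (i : Fin n), u i = u₀ i := fun i => by simp only [u, dif_pos i.2]
  have hu2 : ∀ k, u k * u k = 1 := fun k => by
    simp only [u]; split
    · exact hu₀ _
    · exact one_mul 1
  have hfu : ∀ k (h : k < n), f (u k) = swap (Fin.castSucc ⟨k, h⟩) (Fin.succ ⟨k, h⟩) := fun k h => by
    rw [← hfu₀, ← hu]
  have hzker : ∀ k, z k ∈ f.ker := fun k => by
    simp only [z]; split
    · next h =>
      rw [MonoidHom.mem_ker, map_pow, map_mul, hfu k (by omega), hfu (k + 1) h]
      have h3 := H63.adjacent_swaps_isLiftable n ⟨k, by omega⟩ ⟨k + 1, h⟩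
      rw [H63.coxeterA_apply, if_neg (by simp [Fin.ext_iff]), if_pos (by simp)] at h3
      exact h3
    · exact one_mem _
  have hz2 : ∀ k, z k * z k = 1 := by
    intro k
    have hzc := hcen (z k) (hzker k) (u k)
    by_cases h : k + 1 < n
    · have hzeq : z k = (u k * u (k + 1)) ^ 3 := by simp only [z, if_pos h]
      have hi : u k * z k * u k = (z k)⁻¹ := by
        have e : ∀ a : ℕ, (u a)⁻¹ = u a := fun a => inv_eq_of_mul_eq_one_left (hu2 a)
        rw [hzeq]
        simp only [pow_succ, pow_zero, one_mul, mul_inv_rev, e, mul_assoc]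
        rw [← mul_assoc (u k) (u k), hu2, one_mul]
      rw [hzc, mul_assoc, hu2, mul_one] at hi
      conv_lhs => arg 2; rw [hi]
      rw [mul_inv_cancel]
    · simp [z, if_neg h]
  -- the corrections
  let c : ℕ → H := fun k => ((List.range k).map z).prod
  have hcs : ∀ k, c (k + 1) = c k * z k := fun k => by simp [c, List.range_succ]
  have hcker : ∀ k, c k ∈ f.ker := by
    intro k
    induction k with
    | zero => simp [c]
    | succ k ih => rw [hcs]; exact mul_mem ih (hzker k)
  have hc2 : ∀ k, c k * c k = 1 := by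
    intro k
    induction k with
    | zero => simp [c]
    | succ k ih =>
      rw [hcs, show c k * z k * (c k * z k) = c k * (z k * c k) * z k by group,
        ← hcen (z k) (hzker k) (c k), show c k * (c k * z k) * z k = (c k * c k) * (z k * z k) by group,
        ih, hz2, one_mul]
  let s : Fin n → H := fun i => u i * c i
  have hfs : ∀ i : Fin n, f (s i) = swap i.castSucc i.succ := fun i => by
    rw [map_mul, MonoidHom.mem_ker.1 (hcker i), mul_one, hu, hfu₀]
  have hswap : ∀ i : Fin n, (f (s i)).IsSwap := fun i =>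
    ⟨i.castSucc, i.succ, by simp [Fin.ext_iff], hfs i⟩
  have hs2 : ∀ i : Fin n, s i * s i = 1 := fun i => by
    show u i * c i * (u i * c i) = 1
    rw [show u i * c i * (u i * c i) = u i * (c i * u i) * c i by group,
      ← hcen (c i) (hcker i) (u i), show u i * (u i * c i) * c i = (u i * u i) * (c i * c i) by group,
      hu2, hc2, one_mul]
  have hbraid : ∀ i j : Fin n, (i : ℕ) + 1 = j → (s i * s j) ^ 3 = 1 := by
    intro i j hij
    show (u i * c i * (u j * c j)) ^ 3 = 1
    have e : u i * c i * (u j * c j) = (u i * u (i + 1)) * z i := by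
      rw [← hij, hcs]
      calc u i * c i * (u ((i : ℕ) + 1) * (c i * z i))
          = u i * (c i * u ((i : ℕ) + 1)) * (c i * z i) := by group
        _ = u i * u ((i : ℕ) + 1) * (c i * c i) * z i := by rw [← hcen _ (hcker i)]; group
        _ = u i * u ((i : ℕ) + 1) * z i := by rw [hc2, mul_one]
    rw [e, Commute.mul_pow (hcen _ (hzker i) _), show (u i * u ((i : ℕ) + 1)) ^ 3 = z i by
      simp only [z, if_pos (show (i : ℕ) + 1 < n by omega)]]
    rw [show z i * z i ^ 3 = (z i * z i) * (z i * z i) by simp only [pow_succ, pow_zero, one_mul, mul_assoc], hz2, one_mul]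
  have hlif : (CoxeterMatrix.A n).IsLiftable s := by
    intro i j
    rw [H63.coxeterA_apply]
    by_cases hij : i = j
    · rw [if_pos hij, pow_one, hij, hs2]
    rw [if_neg hij]
    by_cases h3 : (j : ℕ) + 1 = i ∨ (i : ℕ) + 1 = j
    · rw [if_pos h3]
      rcases h3 with h | h
      · rw [show s i * s j = s i * (s j * s i) * (s i)⁻¹ by group, conj_pow, hbraid j i h, mul_one,
          mul_inv_cancel]
      · exact hbraid i j h
    · rw [if_neg h3]
      have hij' : (i : ℕ) ≠ (j : ℕ) := fun h => hij (Fin.ext h)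
      have hd : Equiv.Perm.Disjoint (f (s i)) (f (s j)) := by
        rw [hfs, hfs]
        intro x
        by_cases hx : x = i.castSucc ∨ x = i.succ
        · right
          apply Equiv.swap_apply_of_ne_of_ne <;>
            (rcases hx with rfl | rfl <;> simp [Fin.ext_iff] <;> omega)
        · left
          rw [not_or] at hx
          exact Equiv.swap_apply_of_ne_of_ne hx.1 hx.2
      rw [(hcomm _ _ (hswap i) (hswap j) hd).mul_pow, pow_two, pow_two, hs2, hs2, one_mul]
  -- the section
  obtain ⟨cs, hsimple⟩ := H63.exists_coxeterSystem_perm n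
  let sec : Equiv.Perm (Fin (n + 1)) →* H := cs.lift ⟨s, hlif⟩
  have hsec : ∀ σ, f (sec σ) = σ := fun σ => by
    have e : f.comp sec = MonoidHom.id _ := cs.ext_simple fun i => by
      show f (sec (cs.simple i)) = cs.simple i
      rw [CoxeterSystem.lift_apply_simple, hfs, hsimple]
    exact DFunLike.congr_fun e σ
  have hdec : ∀ h : H, ∃ k ∈ f.ker, h = sec (f h) * k := fun h =>
    ⟨(sec (f h))⁻¹ * h, by rw [MonoidHom.mem_ker, map_mul, map_inv, hsec, inv_mul_cancel],
      (mul_inv_cancel_left _ _).symm⟩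
  have hle : commutator H ≤ sec.range := by
    rw [commutator_def, Subgroup.commutator_le]
    intro a _ b _
    obtain ⟨k, hk, ea⟩ := hdec a
    obtain ⟨l, hl, eb⟩ := hdec b
    refine ⟨⁅f a, f b⁆, ?_⟩
    rw [map_commutatorElement, ea, eb]
    simp only [commutatorElement_def, map_mul, hsec, MonoidHom.mem_ker.1 hk, MonoidHom.mem_ker.1 hl,
      mul_one, _root_.mul_inv_rev]
    generalize sec (f a) = p, sec (f b) = q
    calc p * q * p⁻¹ * q⁻¹ = p * q * (k * k⁻¹) * p⁻¹ * (l * l⁻¹) * q⁻¹ := by group
      _ = p * (q * k) * k⁻¹ * p⁻¹ * (l * (l⁻¹ * q⁻¹)) := by group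
      _ = p * (k * q) * k⁻¹ * p⁻¹ * (l * (l⁻¹ * q⁻¹)) := by rw [hcen k hk q]
      _ = p * k * q * ((k⁻¹ * p⁻¹) * l) * (l⁻¹ * q⁻¹) := by group
      _ = p * k * q * (l * (k⁻¹ * p⁻¹)) * (l⁻¹ * q⁻¹) := by rw [hcen l hl (k⁻¹ * p⁻¹)]
      _ = p * k * (q * l) * (k⁻¹ * p⁻¹) * (l⁻¹ * q⁻¹) := by group
  rw [eq_bot_iff]
  intro x hx
  obtain ⟨hx1, hx2⟩ := Subgroup.mem_inf.1 hx
  obtain ⟨σ, rfl⟩ := hle hx1
  rw [MonoidHom.mem_ker, hsec] at hx2
  rw [Subgroup.mem_bot, hx2, map_one]

end Cfsg.Agent.H54.SymSplit
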